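import Groth.Agent.Sga7.H515.FKMain
import Groth.Agent.Sga7.H515.FKGen
import Groth.Agent.Sga7.H109.Basic
import Groth.Agent.JacVar.K531.JacData

/-!
# Abelian varieties as quotients of Jacobians

`surjective_of_abel`: a homomorphism `χ : J ⟶ A` from a proper group scheme whose composition with a morphism
`X ⟶ J` is the normalised inclusion of a curve with connected covers is surjective.
-/

set_option autoImplicit false
universe u

open CategoryTheory Limits MonoidalCategory CartesianMonoidalCategory AlgebraicGeometry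
open scoped MonObj

namespace K33.QuotJac

open Groth.Agent Groth.Agent.Sga7.H515 Groth.Agent.Sga7.H515.FKConn Groth.Agent.Sga7.H515.FKTransfer

variable {K : Type u} [Field K]

section

attribute [local instance] Functor.grpObjObj

theorem isMonHom_bc {S S' : Scheme.{u}} (f : S' ⟶ S) {A B : Over S} [GrpObj A] [GrpObj B] (u : A ⟶ B)
    [IsMonHom u] : IsMonHom (M := (Over.pullback f).obj A) (N := (Over.pullback f).obj B)
      ((Over.pullback f).map u) := inferInstance

end

theorem surjective_of_norm (A : Over (Spec (CommRingCat.of K))) [GrpObj A] [IsCommMonObj A]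
    [IsProper A.hom] [GeometricallyIntegral A.hom] (n : ℕ) (hn : (n : K) ≠ 0) (hn2 : 2 ≤ n)
    {X : Over (Spec (CommRingCat.of K))} (ψ : X ⟶ A) (σ : 𝟙_ (Over (Spec (CommRingCat.of K))) ⟶ X)
    (hconn : Conn n ψ)
    (H : Over (Spec (CommRingCat.of K))) [GrpObj H] (i : H ⟶ A) [IsMonHom i] [IsClosedImmersion i.left]
    (t : X ⟶ H) (ht : t ≫ i = (toUnit X ≫ (σ ≫ ψ)⁻¹) * ψ) : Surjective i.left := by
  let Ω := AlgebraicClosure K
  let s : Spec (CommRingCat.of Ω) ⟶ Spec (CommRingCat.of K) := Spec.map (CommRingCat.ofHom (algebraMap K Ω))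
  have hp : IsProper (Red.bc s A).hom := inferInstanceAs (IsProper (pullback.snd A.hom s))
  have hgi : GeometricallyIntegral (Red.bc s A).hom :=
    inferInstanceAs (GeometricallyIntegral (pullback.snd A.hom s))
  have hcomm : IsCommMonObj (Red.bc s A) := isCommMonObj_of_isProper_of_geometricallyIntegral _
  have hpb := Groth.Agent.Grpsch.AbBC.isPullback_pullback_map s i
  have h1 : IsClosedImmersion ((Over.pullback s).map i).left :=
    MorphismProperty.of_isPullback hpb.flip ‹IsClosedImmersion i.left›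
  have h2 : IsMonHom (M := Red.bc s H) (N := Red.bc s A) ((Over.pullback s).map i) := isMonHom_bc s i
  have h3 := FKGen.surjective_of_conn (Red.bc s A) n (FKMain.natCast_ne_zero s hn) hn2 ((Over.pullback s).map ψ)
    (σbc s σ) (hconn.isPreconnected s) (Red.bc s H) ((Over.pullback s).map i)
    ⟨(Over.pullback s).map t, by
      rw [← map_norm, ← ht]
      exact ((Over.pullback s).map_comp t i).symm⟩
  have h4 : Surjective (pullback.fst A.hom s) := inferInstance
  have h5 : Surjective (((Over.pullback s).map i).left ≫ pullback.fst A.hom s) := inferInstance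
  have h6 : ((Over.pullback s).map i).left ≫ pullback.fst A.hom s = pullback.fst H.hom s ≫ i.left :=
    pullback.lift_fst _ _ _
  rw [h6] at h5
  exact Surjective.of_comp (pullback.fst H.hom s) i.left

theorem surjective_of_abel (A : Over (Spec (CommRingCat.of K))) [GrpObj A] [IsCommMonObj A]
    [IsProper A.hom] [GeometricallyIntegral A.hom] (n : ℕ) (hn : (n : K) ≠ 0) (hn2 : 2 ≤ n)
    {X : Over (Spec (CommRingCat.of K))} (ψ : X ⟶ A) (σ : 𝟙_ (Over (Spec (CommRingCat.of K))) ⟶ X)
    (hconn : Conn n ψ)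
    (J : Over (Spec (CommRingCat.of K))) [GrpObj J] [IsProper J.hom] (χ : J ⟶ A) [IsMonHom χ]
    (j : X ⟶ J) (hj : j ≫ χ = ψ * (toUnit X ≫ (σ ≫ ψ))⁻¹) : Surjective χ.left := by
  obtain ⟨C, _, p, i, _, _, hpi, _, hp, _, hi⟩ := Groth.Agent.Sga7.H109.Basic.exists_image χ
  have h1 := surjective_of_norm A n hn hn2 ψ σ hconn C i (j ≫ p) (by
    rw [Category.assoc, hpi, hj, GrpObj.comp_inv, mul_comm])
  rw [← hpi, Over.comp_left]
  infer_instance

/-- A smooth proper curve in an abelian variety with connected covers. -/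
theorem exists_curve (Hs : Groth.Agent.Sga7.H5.HypConn.Stmt.{u}) [Infinite K] (A : Over (Spec (CommRingCat.of K)))
    [GrpObj A] [IsCommMonObj A] [IsProper A.hom] [GeometricallyIntegral A.hom] (hd : topologicalKrullDim A.left ≠ 0) :
    ∃ (C : Scheme.{u}) (c : C ⟶ A.left), IsClosedImmersion c ∧ Curve.IsSmoothProperCurve K C (c ≫ A.hom) ∧
      GeometricallyIntegral (c ≫ A.hom) ∧
      ∀ (n : ℕ) (_ : (n : K) ≠ 0), Conn n (Over.homMk c rfl : Over.mk (c ≫ A.hom) ⟶ A) := by
  have := Groth.Agent.Sga7.H5.AVCurve.smooth_hom A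
  obtain ⟨r, j, hj, hj'⟩ := Groth.Agent.S1866.result K A
  obtain ⟨C, c, hc1, hc2, hc3, hc4, hc5⟩ := Groth.Agent.Sga7.H5.AbCurve.exists_curve_smooth Hs A.hom j hj' hd
  exact ⟨C, c, hc1, hc2, hc3, fun n hn => conn_of _ fun Ω _ _ _ =>
    Groth.Agent.Sga7.H5.AVCurve.connectedSpace_cover A hc5 Ω hn⟩

theorem exists_natCast_ne_zero (K : Type u) [Field K] : ∃ n : ℕ, (n : K) ≠ 0 ∧ 2 ≤ n := by
  by_cases h : ((2 : ℕ) : K) = 0
  · refine ⟨3, fun h3 => ?_, by norm_num⟩
    have : (1 : K) = ((3 : ℕ) : K) - ((2 : ℕ) : K) := by push_cast; ring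
    rw [h, h3, sub_zero] at this
    exact one_ne_zero this
  · exact ⟨2, h, le_rfl⟩

end K33.QuotJac
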